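import Groth.Agent.Lib.AbColim18.Homology
import Groth.Agent.Lib.EtColim.Cohomology
import Groth.Prelude.Def_EtCech

/-! # Čech cohomology of qcqs families commutes with filtered colimits -/

set_option autoImplicit false
set_option backward.isDefEq.respectTransparency false
universe u

open CategoryTheory CategoryTheory.Limits AlgebraicGeometry Opposite
open GrothLib.EtSite GrothLib.EtColim

noncomputable section

namespace GrothLib.AbColim18

variable {X : Scheme.{u}}

theorem prod_mem_B₀ {U : X.Etale} [HasFiniteProducts (Over U)] (hU : (eS X).functor.obj U ∈ B X) :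
    ∀ (n : ℕ) (Y : Fin (n + 1) → Over U), (∀ k, (eS X).functor.obj (Y k).left ∈ B X) →
      (eS X).functor.obj (∏ᶜ Y).left ∈ B X := by
  intro n
  induction n with
  | zero =>
    intro Y hY
    have e : (∏ᶜ Y) ≅ Y 0 :=
      { hom := Pi.π Y 0
        inv := Pi.lift fun k => eqToHom (congrArg Y (Fin.fin_one_eq_zero k).symm)
        hom_inv_id := Pi.hom_ext _ _ fun k => by
          obtain rfl : k = 0 := Fin.fin_one_eq_zero k
          simp
        inv_hom_id := by simp }
    exact mem_B_of_iso ((eS X).functor.mapIso ((Over.forget U).mapIso e.symm)) (hY 0)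
  | succ n ih =>
    intro Y hY
    let T : Fin (n + 1) → Over U := fun k => Y k.succ
    let tail : (∏ᶜ Y) ⟶ ∏ᶜ T := Pi.lift fun k => Pi.π Y k.succ
    have htail : ∀ k, tail ≫ Pi.π T k = Pi.π Y k.succ := fun k => Pi.lift_π _ k
    let c : BinaryFan (Y 0) (∏ᶜ T) := BinaryFan.mk (Pi.π Y 0) tail
    let m : ∀ {W : Over U}, (W ⟶ Y 0) → (W ⟶ ∏ᶜ T) → ∀ k : Fin (n + 1 + 1), W ⟶ Y k :=
      fun {W} f g k => Fin.cases (motive := fun k => W ⟶ Y k) f (fun k => g ≫ Pi.π T k) k
    have hc : IsLimit c := BinaryFan.IsLimit.mk c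
      (fun f g => Pi.lift (m f g))
      (fun f g => Pi.lift_π (m f g) 0)
      (fun f g => Pi.hom_ext _ _ fun k => by
        change (Pi.lift (m f g) ≫ tail) ≫ Pi.π T k = g ≫ Pi.π T k
        rw [Category.assoc, htail, Pi.lift_π]
        rfl)
      (fun f g l h1 h2 => Pi.hom_ext (f := Y) l (Pi.lift (m f g)) fun k => by
        rw [Pi.lift_π]
        change l ≫ Pi.π Y 0 = f at h1
        change l ≫ tail = g at h2
        induction k using Fin.cases with
        | zero => exact h1
        | succ j =>
          rw [← htail j, ← Category.assoc, h2]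
          rfl)
    exact mem_B_of_isPullback ((Over.isPullback_of_binaryFan_isLimit c hc).map (eS X).functor) (hY 0)
      (ih T fun k => hY k.succ) hU


variable {I : Type (u + 1)} [SmallCategory I] [IsFiltered I]

theorem preservesColimitsOfShape_sections (U : X.Etale) (hU : (eS X).functor.obj U ∈ B X) :
    PreservesColimitsOfShape I (sheafToPresheaf X.smallEtaleTopology AddCommGrpCat.{u + 1} ⋙
      (evaluation X.Etaleᵒᵖ AddCommGrpCat.{u + 1}).obj (op U)) := by
  refine preservesColimitsOfShape_of_elements _ (fun D c hc x => ?_) (fun D c hc j y hy => ?_)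
  · exact (ColimCoh.sections_colimit cov_h1 cov_h2 (D ⋙ (E X).functor)
      (isColimitOfPreserves (E X).functor hc) hU).1 x
  · exact (ColimCoh.sections_colimit cov_h1 cov_h2 (D ⋙ (E X).functor)
      (isColimitOfPreserves (E X).functor hc) hU).2 j y hy

theorem preservesColimitsOfShape_piSections {κ : Type (u + 1)} [Finite κ] (V : κ → X.Etale)
    (hV : ∀ k, (eS X).functor.obj (V k) ∈ B X)
    (Ψ : Sheaf X.smallEtaleTopology AddCommGrpCat.{u + 1} ⥤ AddCommGrpCat.{u + 1})
    (π : ∀ F k, Ψ.obj F →+ F.obj.obj (op (V k)))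
    (hπ : ∀ {F G : Sheaf X.smallEtaleTopology AddCommGrpCat.{u + 1}} (φ : F ⟶ G) k (y : Ψ.obj F),
      π G k (Ψ.map φ y) = φ.hom.app (op (V k)) (π F k y))
    (hbij : ∀ F, Function.Bijective (fun (y : Ψ.obj F) k => π F k y)) :
    PreservesColimitsOfShape I Ψ := by
  classical
  have := Fintype.ofFinite κ
  refine preservesColimitsOfShape_of_elements _ (fun D c hc x => ?_) (fun D c hc j y hy => ?_)
  · obtain ⟨i, z, hz⟩ := ColimCoh.gen_finite
      (ColimCoh.preCocone ((E X).functor.mapCocone c)) (fun k => (eS X).functor.obj (V k))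
      (fun k t => exists_rep (@isColimitOfPreserves _ _ _ _ _ _ _
        _ _ hc ((preservesColimitsOfShape_sections (V k) (hV k)).preservesColimit)) t)
      (fun k => π c.pt k x)
    obtain ⟨y, hy⟩ := (hbij (D.obj i)).2 z
    refine ⟨i, y, (hbij c.pt).1 (funext fun k => ?_)⟩
    show π c.pt k (Ψ.map (c.ι.app i) y) = π c.pt k x
    exact (hπ (c.ι.app i) k y).trans ((congrArg (fun t => ((c.ι.app i).hom.app (op (V k))) t)
      (congrFun hy k)).trans (hz k))
  · obtain ⟨k, f, hf⟩ := ColimCoh.kill_finite
      (ColimCoh.preCocone ((E X).functor.mapCocone c)) (fun k => (eS X).functor.obj (V k))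
      (fun k _ t ht => exists_map_eq_zero (@isColimitOfPreserves _ _ _ _ _ _ _
        _ _ hc ((preservesColimitsOfShape_sections (V k) (hV k)).preservesColimit)) t ht) j
      (fun k => π (D.obj j) k y) (fun k => by
        refine (hπ (c.ι.app j) k y).symm.trans ?_
        rw [hy, map_zero])
    refine ⟨k, f, (hbij (D.obj k)).1 (funext fun a => ?_)⟩
    show π (D.obj k) a (Ψ.map (D.map f) y) = π (D.obj k) a 0
    exact (hπ (D.map f) a y).trans ((hf a).trans (map_zero _).symm)

theorem pi_bijective {κ : Type (u + 1)} (M : κ → AddCommGrpCat.{u + 1}) :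
    Function.Bijective (fun (y : (∏ᶜ M : AddCommGrpCat.{u + 1})) k => Pi.π M k y) := by
  refine (Concrete.productEquiv M).bijective.comp Function.bijective_id |> fun h => ?_
  convert h using 1
  ext y k
  exact (Concrete.productEquiv_apply_apply M y k).symm

theorem preservesColimitsOfShape_cechHFunctor (U : X.Etale) [HasFiniteProducts (Over U)]
    (hU : (eS X).functor.obj U ∈ B X) {ι : Type (u + 1)} [Finite ι] (Uf : ι → Over U)
    (hUf : ∀ i, (eS X).functor.obj (Uf i).left ∈ B X) (q : ℕ) :
    PreservesColimitsOfShape I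
      (sheafToPresheaf X.smallEtaleTopology AddCommGrpCat.{u + 1} ⋙ EtCech.cechHFunctor Uf q) := by
  let Φ := sheafToPresheaf X.smallEtaleTopology AddCommGrpCat.{u + 1} ⋙
    (Functor.whiskeringLeft (Over U)ᵒᵖ X.Etaleᵒᵖ AddCommGrpCat.{u + 1}).obj (Over.forget U).op ⋙
      cechComplexFunctor Uf
  show PreservesColimitsOfShape I (Φ ⋙ HomologicalComplex.homologyFunctor _ _ q)
  refine preservesColimitsOfShape_homologyFunctor _ Φ (fun n => ?_) q
  let V : (Fin (n + 1) → ι) → X.Etale := fun x => (∏ᶜ (Uf ∘ x)).left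
  refine preservesColimitsOfShape_piSections V
    (fun x => prod_mem_B₀ hU n _ fun k => hUf (x k)) _
    (fun F x => (Pi.π (fun x => F.obj.obj (op (V x))) x).hom) (fun {F G} φ x y => ?_) (fun F => pi_bijective _)
  exact ConcreteCategory.congr_hom (Limits.Pi.map_π (fun x => φ.hom.app (op (V x))) x) y

end GrothLib.AbColim18
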