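import Mathlib.Algebra.Category.Grp.Colimits
import Mathlib.Algebra.Category.Grp.FilteredColimits
import Mathlib.Algebra.Category.Grp.Abelian
import Mathlib.Algebra.Category.Grp.EpiMono
import Mathlib.Algebra.Homology.ShortComplex.Ab
import Mathlib.Algebra.Homology.ShortComplex.HomologicalComplex
import Mathlib.CategoryTheory.Limits.Types.Filtered
import Mathlib.CategoryTheory.Limits.ConcreteCategory.Filtered

/-! # Homology of complexes of abelian groups commutes with filtered colimits -/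

set_option autoImplicit false
universe w v₁ u₁

open CategoryTheory CategoryTheory.Limits

namespace GrothLib.AbColim18

variable {𝒜 : Type u₁} [Category.{v₁} 𝒜] {J : Type w} [SmallCategory J] [IsFiltered J]

theorem preservesColimitsOfShape_of_elements (G : 𝒜 ⥤ AddCommGrpCat.{w})
    (hsurj : ∀ (F : J ⥤ 𝒜) (c : Cocone F), IsColimit c →
      ∀ x : G.obj c.pt, ∃ j y, G.map (c.ι.app j) y = x)
    (hinj : ∀ (F : J ⥤ 𝒜) (c : Cocone F), IsColimit c →
      ∀ j (y : G.obj (F.obj j)), G.map (c.ι.app j) y = 0 → ∃ k, ∃ f : j ⟶ k, G.map (F.map f) y = 0) :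
    PreservesColimitsOfShape J G := by
  refine ⟨fun {F} => ⟨fun {c} hc => ⟨?_⟩⟩⟩
  have : ReflectsColimit (F ⋙ G) (forget AddCommGrpCat.{w}) := reflectsColimit_of_reflectsIsomorphisms _ _
  apply isColimitOfReflects (forget AddCommGrpCat.{w})
  refine Types.FilteredColimit.isColimitOf' _ _ (fun x => ?_) (fun j y y' h => ?_)
  · obtain ⟨j, y, hy⟩ := hsurj F c hc x
    exact ⟨j, y, hy.symm⟩
  · obtain ⟨k, f, hf⟩ := hinj F c hc j (y - y') ((map_sub (G.map (c.ι.app j)).hom y y').trans (sub_eq_zero.2 h))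
    refine ⟨k, f, sub_eq_zero.1 ?_⟩
    exact (map_sub (G.map (F.map f)).hom y y').symm.trans hf

variable {F : J ⥤ AddCommGrpCat.{w}} {c : Cocone F}

theorem exists_rep (hc : IsColimit c) (x : c.pt) : ∃ j y, c.ι.app j y = x :=
  Concrete.isColimit_exists_rep _ hc x

theorem exists_map_eq_zero (hc : IsColimit c) {j : J} (y : F.obj j) (h : c.ι.app j y = 0) :
    ∃ k, ∃ f : j ⟶ k, F.map f y = 0 := by
  rw [← map_zero (c.ι.app j).hom] at h
  obtain ⟨k, f, g, hk⟩ := (Concrete.isColimit_rep_eq_iff_exists _ hc _ _).1 h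
  exact ⟨k, f, hk.trans (map_zero _)⟩

omit [IsFiltered J] in
theorem ι_map {j k : J} (f : j ⟶ k) (y : F.obj j) : c.ι.app k (F.map f y) = c.ι.app j y :=
  ConcreteCategory.congr_hom (c.w f) y

theorem homologyπ_eq_zero_iff (S : ShortComplex AddCommGrpCat.{w}) (z : S.cycles) :
    S.homologyπ z = 0 ↔ ∃ x, S.f x = S.iCycles z := by
  have hex : (ShortComplex.mk _ _ S.toCycles_comp_homologyπ).Exact :=
    ShortComplex.exact_of_g_is_cokernel _ S.homologyIsCokernel
  have key : ∀ x, S.iCycles (S.toCycles x) = S.f x := fun x => congr($(S.toCycles_i) x)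
  constructor
  · intro h
    obtain ⟨x, hx⟩ := (ShortComplex.ab_exact_iff _).1 hex z h
    exact ⟨x, ((key x).symm.trans (congrArg _ hx))⟩
  · rintro ⟨x, hx⟩
    rw [← key] at hx
    rw [← (AddCommGrpCat.mono_iff_injective S.iCycles).1 inferInstance hx]
    exact congr($(S.toCycles_comp_homologyπ) x)

/-- Homology of a family of short complexes commuting termwise with filtered colimits. -/
theorem preservesColimitsOfShape_homology (Φ : 𝒜 ⥤ ShortComplex AddCommGrpCat.{w})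
    (h₁ : PreservesColimitsOfShape J (Φ ⋙ ShortComplex.π₁))
    (h₂ : PreservesColimitsOfShape J (Φ ⋙ ShortComplex.π₂))
    (h₃ : PreservesColimitsOfShape J (Φ ⋙ ShortComplex.π₃)) :
    PreservesColimitsOfShape J (Φ ⋙ ShortComplex.homologyFunctor AddCommGrpCat.{w}) := by
  have hg : ∀ {M N : 𝒜} (f : M ⟶ N) (y : (Φ.obj M).X₂),
      (Φ.obj N).g ((Φ.map f).τ₂ y) = (Φ.map f).τ₃ ((Φ.obj M).g y) := fun f y => congr($((Φ.map f).comm₂₃) y)
  have hf : ∀ {M N : 𝒜} (f : M ⟶ N) (y : (Φ.obj M).X₁),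
      (Φ.obj N).f ((Φ.map f).τ₁ y) = (Φ.map f).τ₂ ((Φ.obj M).f y) := fun f y => congr($((Φ.map f).comm₁₂) y)
  have hi : ∀ {M N : 𝒜} (f : M ⟶ N) (z : (Φ.obj M).cycles),
      (Φ.obj N).iCycles (ShortComplex.cyclesMap (Φ.map f) z) = (Φ.map f).τ₂ ((Φ.obj M).iCycles z) :=
    fun f z => congr($(ShortComplex.cyclesMap_i (Φ.map f)) z)
  have hπ : ∀ {M N : 𝒜} (f : M ⟶ N) (z : (Φ.obj M).cycles),
      ShortComplex.homologyMap (Φ.map f) ((Φ.obj M).homologyπ z) =
        (Φ.obj N).homologyπ (ShortComplex.cyclesMap (Φ.map f) z) :=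
    fun f z => congr($(ShortComplex.homologyπ_naturality (Φ.map f)) z)
  have hrep : ∀ (S : ShortComplex AddCommGrpCat.{w}) (x : S.homology), ∃ z, S.homologyπ z = x := fun S x =>
    (AddCommGrpCat.epi_iff_surjective S.homologyπ).1 inferInstance x
  have hcyc : ∀ (S : ShortComplex AddCommGrpCat.{w}) (x : S.X₂), S.g x = 0 → ∃ z, S.iCycles z = x := fun S x hx =>
    (ShortComplex.ab_exact_iff _).1
      (ShortComplex.exact_of_f_is_kernel (ShortComplex.mk _ _ S.iCycles_g) S.cyclesIsKernel) x hx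
  refine preservesColimitsOfShape_of_elements _ (fun F c hc x => ?_) (fun F c hc j x hx => ?_)
  · obtain ⟨z, rfl⟩ := hrep (Φ.obj c.pt) x
    obtain ⟨j, y, hy⟩ := exists_rep (isColimitOfPreserves (Φ ⋙ ShortComplex.π₂) hc) ((Φ.obj c.pt).iCycles z)
    change (Φ.map (c.ι.app j)).τ₂ y = _ at hy
    obtain ⟨k, f, hk⟩ := exists_map_eq_zero (isColimitOfPreserves (Φ ⋙ ShortComplex.π₃) hc)
      (j := j) ((Φ.obj (F.obj j)).g y) (by
        show (Φ.map (c.ι.app j)).τ₃ ((Φ.obj (F.obj j)).g y) = 0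
        rw [← hg, hy]
        exact congr($((Φ.obj c.pt).iCycles_g) z))
    change (Φ.map (F.map f)).τ₃ ((Φ.obj (F.obj j)).g y) = 0 at hk
    obtain ⟨z', hz'⟩ := hcyc (Φ.obj (F.obj k)) ((Φ.map (F.map f)).τ₂ y) (by rw [hg, hk])
    refine ⟨k, (Φ.obj (F.obj k)).homologyπ z', (hπ _ _).trans (congrArg _ ?_)⟩
    apply (AddCommGrpCat.mono_iff_injective (Φ.obj c.pt).iCycles).1 inferInstance
    rw [hi, hz', ← hy]
    exact ι_map (F := F ⋙ Φ ⋙ ShortComplex.π₂) (c := (Φ ⋙ ShortComplex.π₂).mapCocone c) f y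
  · obtain ⟨z, rfl⟩ := hrep (Φ.obj (F.obj j)) x
    obtain ⟨w, hw⟩ := (homologyπ_eq_zero_iff _ _).1 ((hπ _ z).symm.trans hx)
    rw [hi] at hw
    obtain ⟨l, v, hv⟩ := exists_rep (isColimitOfPreserves (Φ ⋙ ShortComplex.π₁) hc) w
    change (Φ.map (c.ι.app l)).τ₁ v = _ at hv
    let a := IsFiltered.leftToMax j l
    let b := IsFiltered.rightToMax j l
    obtain ⟨k, f, hk⟩ := exists_map_eq_zero (isColimitOfPreserves (Φ ⋙ ShortComplex.π₂) hc)
      (j := IsFiltered.max j l)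
      ((Φ.map (F.map a)).τ₂ ((Φ.obj (F.obj j)).iCycles z) - (Φ.map (F.map b)).τ₂ ((Φ.obj (F.obj l)).f v)) (by
        refine (map_sub (Φ.map (c.ι.app (IsFiltered.max j l))).τ₂.hom _ _).trans (sub_eq_zero.2 ?_)
        refine (ι_map (F := F ⋙ Φ ⋙ ShortComplex.π₂) (c := (Φ ⋙ ShortComplex.π₂).mapCocone c) a _).trans
          (Eq.trans ?_ (ι_map (F := F ⋙ Φ ⋙ ShortComplex.π₂) (c := (Φ ⋙ ShortComplex.π₂).mapCocone c) b _).symm)
        show (Φ.map (c.ι.app j)).τ₂ ((Φ.obj (F.obj j)).iCycles z) = (Φ.map (c.ι.app l)).τ₂ ((Φ.obj (F.obj l)).f v)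
        rw [← hf, hv]
        exact hw.symm)
    replace hk := sub_eq_zero.1 ((map_sub (Φ.map (F.map f)).τ₂.hom _ _).symm.trans hk)
    have e2 : ∀ {p q r : J} (g : p ⟶ q) (g' : q ⟶ r) (y : (Φ.obj (F.obj p)).X₂),
        (Φ.map (F.map g')).τ₂ ((Φ.map (F.map g)).τ₂ y) = (Φ.map (F.map (g ≫ g'))).τ₂ y := fun g g' y => by
      rw [F.map_comp, Φ.map_comp]; rfl
    change (Φ.map (F.map f)).τ₂ ((Φ.map (F.map a)).τ₂ ((Φ.obj (F.obj j)).iCycles z)) =
      (Φ.map (F.map f)).τ₂ ((Φ.map (F.map b)).τ₂ ((Φ.obj (F.obj l)).f v)) at hk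
    rw [e2, e2] at hk
    refine ⟨k, a ≫ f, (hπ _ _).trans ((homologyπ_eq_zero_iff _ _).2
      ⟨(Φ.map (F.map (b ≫ f))).τ₁ v, ?_⟩)⟩
    rw [hf, hi, hk]

/-- Homology of complexes commuting termwise with filtered colimits. -/
theorem preservesColimitsOfShape_homologyFunctor {ι : Type} (c : ComplexShape ι)
    (Φ : 𝒜 ⥤ HomologicalComplex AddCommGrpCat.{w} c)
    (h : ∀ i, PreservesColimitsOfShape J (Φ ⋙ HomologicalComplex.eval _ c i)) (p : ι) :
    PreservesColimitsOfShape J (Φ ⋙ HomologicalComplex.homologyFunctor _ c p) :=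
  preservesColimitsOfShape_homology (Φ ⋙ HomologicalComplex.shortComplexFunctor _ c p)
    (h (c.prev p)) (h p) (h (c.next p))

end GrothLib.AbColim18
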